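import Mathlib
import Groth.Prelude.Def_CAlg
import Groth.Agent.Lib.Helper6.GorQuot
import Groth.Agent.Lib.Helper6.Liai2
import Groth.Agent.Lib.Helper6.HLVGor
import Groth.Agent.Lib.Helper7.GorFib
import Groth.Agent.S0543

set_option autoImplicit false
set_option linter.style.haveILetI false
set_option linter.unusedSectionVars false

universe u
open PowerSeries

namespace Groth.Agent.H8.MCross

variable {k : Type u} [Field k] {n : ℕ}

theorem cc_single (i j : Fin n) :
    constantCoeff ((Pi.single i (X : PowerSeries k) : Fin n → PowerSeries k) j) = 0 := by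
  by_cases h : j = i
  · subst h; simp
  · simp [h]

section sub

variable (M : Subring (Fin n → PowerSeries k))
  (hM : ∀ f, f ∈ M ↔ ∀ i j : Fin n, constantCoeff (f i) = constantCoeff (f j))

include hM in
theorem isUnit_of_constantCoeff_ne_zero (a : M) (i₀ : Fin n)
    (h : constantCoeff (a.1 i₀) ≠ 0) : IsUnit a := by
  have ha := (hM a.1).mp a.2
  have hb : (fun i => (a.1 i)⁻¹) ∈ M := by
    rw [hM]
    intro i j
    rw [PowerSeries.constantCoeff_inv, PowerSeries.constantCoeff_inv, ha i j]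
  refine isUnit_iff_exists_inv.mpr ⟨⟨_, hb⟩, ?_⟩
  apply Subtype.ext
  funext i
  change a.1 i * (a.1 i)⁻¹ = 1
  exact PowerSeries.mul_inv_cancel _ (by rw [ha i i₀]; exact h)

include hM in
theorem tau_mem : (fun _ => X : Fin n → PowerSeries k) ∈ M := (hM _).mpr fun _ _ => rfl

include hM in
theorem single_mem (i : Fin n) : (Pi.single i (X : PowerSeries k) : Fin n → PowerSeries k) ∈ M :=
  (hM _).mpr fun j j' => by rw [cc_single, cc_single]

theorem mul_mem_span (a b : M) (i₀ : Fin n) (ha0 : constantCoeff (a.1 i₀) = 0)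
    (hb0 : constantCoeff (b.1 i₀) = 0) :
    a * b ∈ Ideal.span {(⟨fun _ => X, tau_mem M hM⟩ : M)} := by
  have ha := (hM a.1).mp a.2
  have hb := (hM b.1).mp b.2
  have hXa : ∀ i, (X : PowerSeries k) ∣ a.1 i := fun i =>
    PowerSeries.X_dvd_iff.mpr (by rw [ha i i₀, ha0])
  choose a' ha' using hXa
  have hc : (fun i => a' i * b.1 i) ∈ M := by
    rw [hM]; intro i j
    rw [map_mul, map_mul, hb i i₀, hb j i₀, hb0, mul_zero, mul_zero]
  rw [Ideal.mem_span_singleton']
  refine ⟨⟨_, hc⟩, ?_⟩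
  apply Subtype.ext
  funext i
  change a' i * b.1 i * X = a.1 i * b.1 i
  rw [ha' i]; ring

include hM in
set_option maxHeartbeats 1600000 in
theorem false_of_three_le (h3 : 3 ≤ n) [hG : LocCoh.IsGorensteinLocalRing M] : False := by
  let i₀ : Fin n := ⟨0, by omega⟩
  let i₁ : Fin n := ⟨1, by omega⟩
  let i₂ : Fin n := ⟨2, by omega⟩
  have h10 : i₁ ≠ i₀ := by simp [i₀, i₁, Fin.ext_iff]
  have h21 : i₂ ≠ i₁ := by simp [i₂, i₁, Fin.ext_iff]
  obtain ⟨τ, hτ⟩ : ∃ τ : M, τ = ⟨fun _ => X, tau_mem M hM⟩ := ⟨_, rfl⟩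
  have hτi : ∀ i, τ.1 i = X := fun i => by rw [hτ]
  have hnu : ∀ a : M, ¬ IsUnit a → constantCoeff (a.1 i₀) = 0 := fun a ha => by
    by_contra h; exact ha (isUnit_of_constantCoeff_ne_zero M hM a i₀ h)
  have hτm : τ ∈ IsLocalRing.maximalIdeal M := by
    rw [IsLocalRing.mem_maximalIdeal, mem_nonunits_iff]
    intro hu
    obtain ⟨b, hb⟩ := isUnit_iff_exists_inv.mp hu
    have h1 : constantCoeff ((τ * b).1 i₀) = constantCoeff ((1 : M).1 i₀) := by rw [hb]
    rw [Subring.coe_mul, Pi.mul_apply, map_mul, hτi, constantCoeff_X, zero_mul, Subring.coe_one,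
      Pi.one_apply, map_one] at h1
    exact zero_ne_one h1
  have hreg : IsSMulRegular M τ := by
    intro a b hab
    apply Subtype.ext
    funext i
    have h1 : (τ * a).1 i = (τ * b).1 i := congrArg (fun z : M => z.1 i) hab
    rw [Subring.coe_mul, Subring.coe_mul, Pi.mul_apply, Pi.mul_apply, hτi] at h1
    exact mul_left_cancel₀ PowerSeries.X_ne_zero h1
  haveI hGB : LocCoh.IsGorensteinLocalRing (M ⧸ Ideal.span {τ}) :=
    (Groth.Agent.H6.CR.gorenstein_quot_iff τ hτm hreg).mp hG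
  -- the maximal ideal of the quotient has square zero
  have hmB : ∀ x ∈ IsLocalRing.maximalIdeal (M ⧸ Ideal.span {τ}),
      ∃ a : M, Ideal.Quotient.mk (Ideal.span {τ}) a = x ∧ constantCoeff (a.1 i₀) = 0 := by
    intro x hx
    obtain ⟨a, rfl⟩ := Ideal.Quotient.mk_surjective x
    refine ⟨a, rfl, hnu a fun hu => ?_⟩
    rw [IsLocalRing.mem_maximalIdeal, mem_nonunits_iff] at hx
    exact hx (hu.map (Ideal.Quotient.mk (Ideal.span {τ})))
  have hprod : ∀ a b : M, constantCoeff (a.1 i₀) = 0 → constantCoeff (b.1 i₀) = 0 →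
      Ideal.Quotient.mk (Ideal.span {τ}) (a * b) = 0 := by
    intro a b ha hb
    rw [Ideal.Quotient.eq_zero_iff_mem, hτ]
    exact mul_mem_span M hM a b i₀ ha hb
  have hd : ringKrullDim (M ⧸ Ideal.span {τ}) = (0 : ℕ) := by
    have h0 : Ring.KrullDimLE 0 (M ⧸ Ideal.span {τ}) := by
      rw [Ring.krullDimLE_zero_iff]
      intro P hP
      have hPm : P = IsLocalRing.maximalIdeal (M ⧸ Ideal.span {τ}) := by
        apply le_antisymm (IsLocalRing.le_maximalIdeal hP.ne_top)
        intro x hx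
        obtain ⟨a, rfl, ha⟩ := hmB x hx
        have h1 : Ideal.Quotient.mk (Ideal.span {τ}) a * Ideal.Quotient.mk (Ideal.span {τ}) a ∈ P := by
          rw [← map_mul, hprod a a ha ha]
          exact P.zero_mem
        rcases hP.mem_or_mem h1 with h | h <;> exact h
      rw [hPm]
      exact IsLocalRing.maximalIdeal.isMaximal _
    apply le_antisymm
    · have := Ring.krullDimLE_iff.mp h0
      simpa using this
    · simpa using (ringKrullDim_nonneg_of_nontrivial (R := M ⧸ Ideal.span {τ}))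
  obtain ⟨e₁, he₁⟩ : ∃ e₁ : M, e₁ = ⟨Pi.single i₀ X, single_mem M hM i₀⟩ := ⟨_, rfl⟩
  obtain ⟨e₂, he₂⟩ : ∃ e₂ : M, e₂ = ⟨Pi.single i₁ X, single_mem M hM i₁⟩ := ⟨_, rfl⟩
  have he₁i : ∀ i, e₁.1 i = (Pi.single i₀ (X : PowerSeries k) : Fin n → PowerSeries k) i :=
    fun i => by rw [he₁]
  have he₂i : ∀ i, e₂.1 i = (Pi.single i₁ (X : PowerSeries k) : Fin n → PowerSeries k) i :=
    fun i => by rw [he₂]
  have hmem := Groth.Agent.H6.Liai.mem_of_forall_mul_eq_zero hd
    (Ideal.span {Ideal.Quotient.mk (Ideal.span {τ}) e₁})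
    (Ideal.Quotient.mk (Ideal.span {τ}) e₂) (by
      intro y hy
      obtain ⟨y', rfl⟩ := Ideal.Quotient.mk_surjective y
      have h1 := hy (Ideal.Quotient.mk (Ideal.span {τ}) e₁) (Ideal.subset_span rfl)
      rw [← map_mul, Ideal.Quotient.eq_zero_iff_mem, Ideal.mem_span_singleton'] at h1
      obtain ⟨m, hm⟩ := h1
      have hm1 : (m * τ).1 i₁ = (e₁ * y').1 i₁ := by rw [hm]
      have hm0 : (m * τ).1 i₀ = (e₁ * y').1 i₀ := by rw [hm]
      rw [Subring.coe_mul, Subring.coe_mul, Pi.mul_apply, Pi.mul_apply, hτi, he₁i,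
        Pi.single_eq_of_ne h10, zero_mul] at hm1
      rw [Subring.coe_mul, Subring.coe_mul, Pi.mul_apply, Pi.mul_apply, hτi, he₁i,
        Pi.single_eq_same, mul_comm] at hm0
      have hm1' : m.1 i₁ = 0 := by
        rcases mul_eq_zero.mp hm1 with h | h
        · exact h
        · exact absurd h PowerSeries.X_ne_zero
      have hm0' : m.1 i₀ = y'.1 i₀ := mul_left_cancel₀ PowerSeries.X_ne_zero hm0
      have hy0 : constantCoeff (y'.1 i₀) = 0 := by
        rw [← hm0', (hM m.1).mp m.2 i₀ i₁, hm1', map_zero]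
      rw [← map_mul]
      exact hprod e₂ y' (by rw [he₂i]; exact cc_single i₁ i₀) hy0)
  rw [Ideal.mem_span_singleton'] at hmem
  obtain ⟨c, hc⟩ := hmem
  obtain ⟨c', rfl⟩ := Ideal.Quotient.mk_surjective c
  rw [← map_mul, Ideal.Quotient.eq, Ideal.mem_span_singleton'] at hc
  obtain ⟨m, hm⟩ := hc
  have hm' : m * τ + e₂ = c' * e₁ := by rw [hm]; ring
  have hm1 : (m * τ + e₂).1 i₁ = (c' * e₁).1 i₁ := by rw [hm']
  have hm2 : (m * τ + e₂).1 i₂ = (c' * e₁).1 i₂ := by rw [hm']
  rw [Subring.coe_add, Pi.add_apply, Subring.coe_mul, Pi.mul_apply, hτi, Subring.coe_mul,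
    Pi.mul_apply, he₁i, he₂i, Pi.single_eq_of_ne h10, Pi.single_eq_same, mul_zero] at hm1
  rw [Subring.coe_add, Pi.add_apply, Subring.coe_mul, Pi.mul_apply, hτi, Subring.coe_mul,
    Pi.mul_apply, he₁i, he₂i, Pi.single_eq_of_ne (by simp [i₂, i₀, Fin.ext_iff] : i₂ ≠ i₀),
    Pi.single_eq_of_ne h21, mul_zero, add_zero] at hm2
  have hm1' : m.1 i₁ = -1 := by
    have h : (m.1 i₁ + 1) * X = 0 := by rw [add_mul, one_mul, hm1]
    rcases mul_eq_zero.mp h with h | h
    · exact eq_neg_of_add_eq_zero_left h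
    · exact absurd h PowerSeries.X_ne_zero
  have hm2' : m.1 i₂ = 0 := by
    rcases mul_eq_zero.mp hm2 with h | h
    · exact h
    · exact absurd h PowerSeries.X_ne_zero
  have hcc := (hM m.1).mp m.2 i₁ i₂
  rw [hm1', hm2', map_neg, map_one, map_zero] at hcc
  exact one_ne_zero (neg_eq_zero.mp hcc)

end sub

set_option maxHeartbeats 1600000 in
theorem main (k : Type u) [Field k]
    (A : Type u) [CommRing A] [LocCoh.IsGorensteinLocalRing A] (n : ℕ) (hn : 2 ≤ n)
    (φ : AdicCompletion (IsLocalRing.maximalIdeal A) A →+* (Fin n → PowerSeries k))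
    (hinj : Function.Injective φ)
    (hrange : Set.range φ = {f : Fin n → PowerSeries k | ∀ i j : Fin n,
      PowerSeries.constantCoeff (f i) = PowerSeries.constantCoeff (f j)}) :
    n = 2 := by
  by_contra hne
  have h3 : 3 ≤ n := by omega
  haveI : IsNoetherianRing (AdicCompletion (IsLocalRing.maximalIdeal A) A) :=
    Groth.Agent.S0543.result A _
  have hÂ : LocCoh.IsGorensteinLocalRing (AdicCompletion (IsLocalRing.maximalIdeal A) A) := by
    refine (Groth.Agent.H7.GorFib.gor_iff_of_flat_local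
      (algebraMap A (AdicCompletion (IsLocalRing.maximalIdeal A) A)) ?_
      (F := AdicCompletion (IsLocalRing.maximalIdeal A) A ⧸
        IsLocalRing.maximalIdeal (AdicCompletion (IsLocalRing.maximalIdeal A) A))
      (Ideal.quotEquivOfEq AdicCompletion.maximalIdeal_eq_map.symm)).mpr ⟨inferInstance, ?_⟩
    · exact RingHom.flat_algebraMap_iff.mpr (AdicCompletion.flat_of_isNoetherian _)
    · exact Groth.Agent.H6.HLVGor.gorenstein_of_isField _
        ((Ideal.Quotient.maximal_ideal_iff_isField_quotient _).mp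
          (IsLocalRing.maximalIdeal.isMaximal _))
  have key : ∀ f, f ∈ φ.range ↔ ∀ i j : Fin n, constantCoeff (f i) = constantCoeff (f j) := by
    intro f
    rw [RingHom.mem_range, ← Set.mem_range, hrange]
    rfl
  let e : AdicCompletion (IsLocalRing.maximalIdeal A) A ≃+* φ.range :=
    RingEquiv.ofBijective φ.rangeRestrict
      ⟨fun x y h => hinj (congrArg Subtype.val h), φ.rangeRestrict_surjective⟩
  haveI : LocCoh.IsGorensteinLocalRing φ.range :=
    Groth.Agent.H4.GL2.isGorensteinLocalRing_of_ringEquiv e hÂ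
  exact false_of_three_le φ.range key h3

end Groth.Agent.H8.MCross
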